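import Groth.Agent.FlatLoc6.NormalAscent
import Groth.Agent.FlatLoc6.FiberRing
import Groth.Agent.GrLib8.Cutoff.Nagata
import Groth.Agent.RegLoc6.Serre

/-! Normality of the total ring of a flat family with reduced fibres of dimension one and regular generic fibre. -/

set_option autoImplicit false
set_option linter.style.haveILetI false
set_option linter.unusedSectionVars false
set_option maxHeartbeats 1000000

universe u

open IsLocalRing

namespace Groth.Agent.CurvFam18

open FlatLoc6

variable {A B : Type u} [CommRing A] [CommRing B] [IsNoetherianRing A] [IsNoetherianRing B] [Algebra A B]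

/-- A reduced fibre of dimension one satisfies the fibre condition of `(S_2)`. -/
theorem fib_le_two (q : Ideal B) [q.IsPrime] [IsReduced ((q.comap (algebraMap A B)).Fiber B)]
    (hdim : ringKrullDim ((q.comap (algebraMap A B)).Fiber B) ≤ 1) :
    min ((2 : ℕ) : WithBot ℕ∞) (fibDim A q B) ≤ ((fibDepth A q B : ℕ∞) : WithBot ℕ∞) := by
  haveI := isNoetherianRing_fiber (B := B) (q.comap (algebraMap A B))
  have h := fib_le_of_fiber_hasSk 1 _ q rfl
    (Groth.Agent.GrLib8.Cutoff.hasSk_one_of_reduced ((q.comap (algebraMap A B)).Fiber B))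
  obtain ⟨Q, hQ⟩ := exists_fiber_prime (q.comap (algebraMap A B)) q rfl
  obtain ⟨h1, -⟩ := fib_of_fiber_prime (q.comap (algebraMap A B)) Q.asIdeal q hQ
  have hle : fibDim A q B ≤ ((1 : ℕ) : WithBot ℕ∞) := by
    rw [h1, Nat.cast_one]
    exact (Ideal.height_le_ringKrullDim_of_ne_top Q.2.ne_top).trans hdim
  rw [min_eq_right hle] at h
  exact (min_le_right _ _).trans h

variable [Module.Flat A B]

/-- The height formula. -/
theorem height_eq_add (q : Ideal B) [q.IsPrime] :
    ((q.height : ℕ∞) : WithBot ℕ∞) = ((q.comap (algebraMap A B)).height : WithBot ℕ∞) + fibDim A q B := by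
  have hB : (⟨q, ‹_›⟩ : PrimeSpectrum B) ∈ Module.support B B := by
    rw [Module.mem_support_iff]
    exact (LC.selfLoc q.primeCompl).toEquiv.nontrivial
  have hA' : (⟨q.comap (algebraMap A B), inferInstance⟩ : PrimeSpectrum A) ∈ Module.support A A := by
    rw [Module.mem_support_iff]
    exact (LC.selfLoc (q.comap (algebraMap A B)).primeCompl).toEquiv.nontrivial
  obtain ⟨-, h2⟩ := formulas_atPrime B A _ q rfl hB hA'
  let e : LocalizedModule q.primeCompl (TensorProduct A B A) ≃ₗ[Localization.AtPrime q] LocalizedModule q.primeCompl B :=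
    IsLocalizedModule.mapEquiv q.primeCompl (LocalizedModule.mkLinearMap _ _) (LocalizedModule.mkLinearMap _ _)
      (Localization.AtPrime q) (TensorProduct.AlgebraTensorModule.rid A B B)
  rw [Module.supportDim_eq_of_equiv e, supportDim_self_atPrime, supportDim_self_atPrime] at h2
  exact h2

variable [IsDomain A] [IsIntegrallyClosed A]

/-- Normality from a regular generic fibre and reduced fibres of dimension at most one. -/
theorem normal_atPrime (hred : ∀ (p : Ideal A) [p.IsPrime], IsReduced (p.Fiber B))
    (hdim : ∀ (p : Ideal A) [p.IsPrime], ringKrullDim (p.Fiber B) ≤ 1)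
    (hgen : ∀ (p : Ideal A) [p.IsPrime], p = ⊥ → ∀ (Q : Ideal (p.Fiber B)) [Q.IsPrime],
      IsRegularLocalRing (Localization.AtPrime Q))
    (q : Ideal B) [q.IsPrime] :
    IsDomain (Localization.AtPrime q) ∧ IsIntegrallyClosed (Localization.AtPrime q) := by
  have hA : ∀ (p : Ideal A) [p.IsPrime], (p.height ≤ 1 → IsRegularLocalRing (Localization.AtPrime p)) ∧
      min (2 : ℕ∞) p.height ≤ LocCoh.depth (Localization.AtPrime p) (Localization.AtPrime p) := fun p _ => by
    have hP : p.primeCompl ≤ nonZeroDivisors A := fun z hz =>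
      mem_nonZeroDivisors_of_ne_zero fun h0 => hz (h0 ▸ p.zero_mem)
    haveI := IsLocalization.isDomain_localization hP
    haveI := isIntegrallyClosed_of_isLocalization (Localization.AtPrime p) p.primeCompl hP
    exact conds_of_normal_atPrime p p le_rfl
  refine normal_atPrime_of_le q (fun q' _ _ hk => ?_) (fun q' _ _ => ?_)
  · haveI := hred (q'.comap (algebraMap A B))
    haveI := isNoetherianRing_fiber (B := B) (q'.comap (algebraMap A B))
    haveI := isLocalRing_fibLocRing (A := A) q'
    obtain ⟨Q, hQ⟩ := exists_fiber_prime (q'.comap (algebraMap A B)) q' rfl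
    obtain ⟨h1, -⟩ := fib_of_fiber_prime (q'.comap (algebraMap A B)) Q.asIdeal q' hQ
    have hreg : IsRegularLocalRing (Localization.AtPrime Q.asIdeal) := by
      by_cases hp : q'.comap (algebraMap A B) = ⊥
      · exact hgen _ hp Q.asIdeal
      · have hp1 : 1 ≤ (q'.comap (algebraMap A B)).height := Order.one_le_iff_ne_zero.2 fun h0 =>
          hp (by simpa [IsDomain.minimalPrimes_eq_singleton_bot] using Ideal.height_eq_zero_iff.1 h0)
        have h2 := height_eq_add (A := A) q'
        have hQ0 : Q.asIdeal.height = 0 := by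
          rw [h1, ← WithBot.coe_add, WithBot.coe_inj] at h2
          have h3 : 1 + Q.asIdeal.height ≤ 1 + 0 := by
            rw [add_zero]
            exact ((add_le_add hp1 le_rfl).trans_eq h2.symm).trans hk
          exact nonpos_iff_eq_zero.1 ((ENat.add_le_add_iff_left (by norm_num)).1 h3)
        haveI : Ring.KrullDimLE 0 (Localization.AtPrime Q.asIdeal) := Ring.krullDimLE_iff.2
          (by rw [IsLocalization.AtPrime.ringKrullDim_eq_height Q.asIdeal (Localization.AtPrime Q.asIdeal), hQ0]; rfl)
        haveI : IsReduced (Localization.AtPrime Q.asIdeal) := inferInstance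
        exact RegLoc6.isRegularLocalRing_of_isField Ring.KrullDimLE.isField_of_isReduced
    obtain ⟨ef⟩ := exists_fibLocEquiv (q'.comap (algebraMap A B)) Q.asIdeal
    have hFs : ∀ (q'' : Ideal B) [q''.IsPrime], Q.asIdeal.comap Algebra.TensorProduct.includeRight = q'' →
        IsRegularLocalRing (EGA4.FibLocRing A B q'') := fun q'' _ h => by
      subst h
      exact IsRegularLocalRing.of_ringEquiv (R := Localization.AtPrime Q.asIdeal) (by exact ef)
    have hF := hFs q' hQ
    refine regular_ascend 1 _ hk (fun P _ _ => ?_) (hA _).1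
    haveI := hF
    exact RegLoc6.isRegularLocalRing_localization _ P
  · haveI := hred (q'.comap (algebraMap A B))
    exact sk_self_ascend 2 q' (fib_le_two q' (hdim _)) (hA _).2

end Groth.Agent.CurvFam18
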